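import Mathlib.RingTheory.IsTensorProduct
import Groth.Prelude.Def_RelProj3
import Groth.Agent.ProjTilde.QC
import Groth.Agent.ProjTilde.AffIso
import Groth.Agent.ProjTwist.Ratio
import Groth.Agent.LimTop.PullSec

/-!
# The twisting sheaves under base change of the graded ring

For `A = R ⊗_{R'} B` the adjunct of `O(n) ⟶ Φ_* O(n)` is bijective over every `D₊(φ g)`: on both sides the
sections are the degree-`n` part of `B_g ⊗_{R'} R`, and the degree pieces of `B` are direct summands.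
-/

set_option autoImplicit false
universe u

open CategoryTheory CategoryTheory.Limits AlgebraicGeometry TopologicalSpace Opposite
open scoped TensorProduct

noncomputable section

namespace Groth.Agent.ProjBC

open Groth.Agent.GrModLib Groth.Agent.ProjTwist

variable {R R' A B : Type u} [CommRing R'] [CommRing R] [Algebra R' R]
  [CommRing B] [Algebra R' B] {ℬ : ℕ → Submodule R' B} [GradedAlgebra ℬ]
  [CommRing A] [Algebra R A] [Algebra R' A] [IsScalarTower R' R A] {𝒜 : ℕ → Submodule R A}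
  [GradedAlgebra 𝒜] [Algebra B A] [IsScalarTower R' B A] [Algebra.IsPushout R' R B A]
  (φ : ℬ →+*ᵍ 𝒜) (hφ : HomogeneousIdeal.irrelevant 𝒜 ≤ (HomogeneousIdeal.irrelevant ℬ).map φ)
  (hφA : ∀ b : B, φ b = algebraMap B A b)

/-- `φ` as a semilinear map. -/
def semi : B →ₛₗ[φ.toRingHom] A where
  toFun := φ
  map_add' := map_add φ
  map_smul' a b := map_mul φ a b

variable (n : ℤ)

/-- `O(n) ⟶ Φ_* O(n)`. -/
def cmp : Twist.twist ℬ n ⟶ (Scheme.Modules.pushforward (Proj.map φ hφ)).obj (Twist.twist 𝒜 n) :=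
  GrMod.comap φ hφ (semi φ) (fun _ _ hm => φ.map_mem hm) n

/-- Its adjunct. -/
def adjunct : (Scheme.Modules.pullback (Proj.map φ hφ)).obj (Twist.twist ℬ n) ⟶ Twist.twist 𝒜 n :=
  ((Scheme.Modules.pullbackPushforwardAdjunction (Proj.map φ hφ)).homEquiv _ _).symm (cmp φ hφ n)

lemma adjunct_unitSec (U : (Proj ℬ).Opens) (m : Γ(Twist.twist ℬ n, U)) :
    (adjunct φ hφ n).app (Proj.map φ hφ ⁻¹ᵁ U)
        (LimTop.unitSec (Proj.map φ hφ) (Twist.twist ℬ n) le_rfl m) =
      (cmp φ hφ n).app U m := by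
  rw [LimTop.unitSec_apply, QCoh.res_self]
  exact congrArg (fun f : Twist.twist ℬ n ⟶ (Scheme.Modules.pushforward (Proj.map φ hφ)).obj
      (Twist.twist 𝒜 n) => Scheme.Modules.Hom.app f U m)
    (((Scheme.Modules.pullbackPushforwardAdjunction (Proj.map φ hφ)).homEquiv_unit _ _ _).symm.trans
      (Equiv.apply_symm_apply _ _))

section chart

variable {d : ℕ} {g : B} (hg : g ∈ ℬ d)

/-- The chart upstairs. -/
abbrev V (g : B) : (Proj 𝒜).Opens := Proj.map φ hφ ⁻¹ᵁ Proj.basicOpen ℬ g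

lemma mem_V {x : ProjectiveSpectrum 𝒜} : x ∈ V φ hφ g ↔ φ g ∉ x.asHomogeneousIdeal := Iff.rfl

/-- `b / g ^ e`. -/
def secB {i e : ℕ} (hi : (i : ℤ) = (e * d : ℕ) + n) (b : ℬ i) :
    Γ(Twist.twist ℬ n, Proj.basicOpen ℬ g) :=
  fracSec (𝒜 := ℬ) (ℳ := ℬ) b.2 (ProjTilde.pow_mem_deg hg e) n hi (fun x => pow_nin x.2 _)

/-- `a / (φ g) ^ e`. -/
def secA {i e : ℕ} (hi : (i : ℤ) = (e * d : ℕ) + n) (a : 𝒜 i) : Γ(Twist.twist 𝒜 n, V φ hφ g) :=
  fracSec (𝒜 := 𝒜) (ℳ := 𝒜) a.2 (ProjTilde.pow_mem_deg (φ.map_mem hg) e) n hi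
    (fun x => pow_nin (show φ g ∉ x.1.asHomogeneousIdeal from x.2) _)

/-- The value of a section of `O(n)` upstairs. -/
abbrev valA {U : (Proj 𝒜).Opens} (s : Γ(Twist.twist 𝒜 n, U)) (x : ProjectiveSpectrum 𝒜) (hx : x ∈ U) :
    GrMod.LocMod 𝒜 (M := A) x :=
  ProjTilde.sval (𝒜 := 𝒜) (ℳ := 𝒜) (n := n) s x hx

lemma cmp_secB {i e : ℕ} (hi : (i : ℤ) = (e * d : ℕ) + n) (b : ℬ i) :
    (cmp φ hφ n).app (Proj.basicOpen ℬ g) (secB n hg hi b) =
      secA φ hφ n hg hi ⟨φ b, φ.map_mem b.2⟩ := by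
  refine ProjTilde.sval_ext (𝒜 := 𝒜) (ℳ := 𝒜) (n := n) fun x hx => ?_
  refine (GrMod.locModMap_mk φ hφ (semi φ) x _ _).trans ?_
  exact congrArg (LocalizedModule.mk (φ b : A)) (Subtype.ext (map_pow φ g e))

/-- The constant function `r`. -/
def cst (U : (Proj 𝒜).Opens) (r : R) : Γ(Proj 𝒜, U) :=
  fracFun (SetLike.algebraMap_mem_graded 𝒜 r) (SetLike.one_mem_graded 𝒜)
    (fun x _ => GrMod.one_nin (show ProjectiveSpectrum 𝒜 from x))

omit [Algebra R' A] in
lemma cst_add (U : (Proj 𝒜).Opens) (r s : R) : cst (𝒜 := 𝒜) U (r + s) = cst U r + cst U s :=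
  valAt_ext fun x hx => by
    simp only [cst, valAt_add, valAt_fracFun, map_add]
    exact (Localization.add_mk_self _ _ _).symm

omit [Algebra R' A] in
lemma cst_mul (U : (Proj 𝒜).Opens) (r s : R) : cst (𝒜 := 𝒜) U (r * s) = cst U r * cst U s :=
  valAt_ext fun x hx => by
    simp only [cst, valAt_mul, valAt_fracFun, map_mul, Localization.mk_mul]
    congr 1
    exact Subtype.ext (one_mul _).symm

/-- The comorphism on a fraction. -/
lemma appLE_fracFun {k : ℕ} {a b : B} (ha : a ∈ ℬ k) (hb : b ∈ ℬ k) {U : (Proj ℬ).Opens}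
    (h : U ≤ Proj.basicOpen ℬ b) :
    (Proj.map φ hφ).appLE U (Proj.map φ hφ ⁻¹ᵁ U) le_rfl (fracFun ha hb h) =
      fracFun (φ.map_mem ha) (φ.map_mem hb)
        (fun x hx => (Proj.map φ hφ).preimage_mono h hx) := by
  rw [← Scheme.Hom.app_eq_appLE]
  refine valAt_ext fun x hx => ?_
  refine (HomogeneousLocalization.val_localRingHom _).trans ?_
  refine (congrArg (GrTwist.locMap φ hφ x) (valAt_fracFun ha hb h _ hx)).trans ?_
  refine (GrTwist.locMap_mk φ hφ x _ _).trans ?_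
  exact (valAt_fracFun _ _ _ x hx).symm

include hφA in
lemma map_algebraMap (r : R') : φ (algebraMap R' B r) = algebraMap R A (algebraMap R' R r) := by
  rw [hφA, ← IsScalarTower.algebraMap_apply R' B A, ← IsScalarTower.algebraMap_apply R' R A]

include hφA in
lemma appLE_algebraMap (U : (Proj ℬ).Opens) (r : R') :
    (Proj.map φ hφ).appLE U (Proj.map φ hφ ⁻¹ᵁ U) le_rfl
        (fracFun (SetLike.algebraMap_mem_graded ℬ r) (SetLike.one_mem_graded ℬ)
          (fun x _ => GrMod.one_nin (show ProjectiveSpectrum ℬ from x))) =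
      cst _ (algebraMap R' R r) := by
  rw [appLE_fracFun]
  refine valAt_ext fun x hx => ?_
  rw [cst, valAt_fracFun, valAt_fracFun]
  exact congrArg₂ Localization.mk (map_algebraMap φ hφA r) (Subtype.ext (map_one φ))

lemma secB_add {i e : ℕ} (hi : (i : ℤ) = (e * d : ℕ) + n) (b b' : ℬ i) :
    secB n hg hi (b + b') = secB n hg hi b + secB n hg hi b' :=
  ProjTilde.sval_ext (𝒜 := ℬ) (ℳ := ℬ) (n := n) fun _ _ =>
    Eq.trans (mk_eq_mk_iff.mpr ⟨1, GrMod.one_nin _, by
      simp only [one_smul, Submonoid.smul_def, Submonoid.coe_mul, smul_eq_mul, Submodule.coe_add]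
      ring⟩) LocalizedModule.mk_add_mk.symm

lemma secA_add {i e : ℕ} (hi : (i : ℤ) = (e * d : ℕ) + n) (a a' : 𝒜 i) :
    secA φ hφ n hg hi (a + a') = secA φ hφ n hg hi a + secA φ hφ n hg hi a' :=
  ProjTilde.sval_ext (𝒜 := 𝒜) (ℳ := 𝒜) (n := n) fun _ _ =>
    Eq.trans (mk_eq_mk_iff.mpr ⟨1, GrMod.one_nin _, by
      simp only [one_smul, Submonoid.smul_def, Submonoid.coe_mul, smul_eq_mul, Submodule.coe_add]
      ring⟩) LocalizedModule.mk_add_mk.symm

lemma fracFun_smul_secB {i e k : ℕ} (hi : (i : ℤ) = (e * d : ℕ) + n) (a : B) (ha : a ∈ ℬ (k * d))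
    (b : ℬ i) (hi' : ((k * d + i : ℕ) : ℤ) = ((k + e) * d : ℕ) + n) :
    fracFun ha (ProjTilde.pow_mem_deg hg k)
        (fun _ hx => pow_nin hx k : Proj.basicOpen ℬ g ≤ Proj.basicOpen ℬ (g ^ k)) • secB n hg hi b =
      secB n hg hi' ⟨a * b, SetLike.mul_mem_graded ha b.2⟩ := by
  refine ProjTilde.sval_ext (𝒜 := ℬ) (ℳ := ℬ) (n := n) fun x hx =>
    (ProjTilde.sval_smul _ _ x hx).trans ?_
  refine (congrArg (· • _) (valAt_fracFun _ _ _ x hx)).trans ?_
  refine (LocalizedModule.mk_smul_mk _ _ _ _).trans ?_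
  exact congrArg (LocalizedModule.mk (a * (b : B))) (Subtype.ext (pow_add g k e).symm)

include hφA in
lemma algebraMap_smul_secB {i e : ℕ} (hi : (i : ℤ) = (e * d : ℕ) + n) (r : R') (b : ℬ i) :
    secB n hg hi (r • b) = fracFun (U := Proj.basicOpen ℬ g) (SetLike.algebraMap_mem_graded ℬ r) (SetLike.one_mem_graded ℬ)
        (fun x _ => GrMod.one_nin (show ProjectiveSpectrum ℬ from x)) • secB n hg hi b := by
  refine ProjTilde.sval_ext (𝒜 := ℬ) (ℳ := ℬ) (n := n) fun x hx =>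
    ((ProjTilde.sval_smul _ _ x hx).trans ?_).symm
  refine (congrArg (· • _) (valAt_fracFun _ _ _ x hx)).trans ?_
  refine (LocalizedModule.mk_smul_mk _ _ _ _).trans ?_
  exact congrArg₂ LocalizedModule.mk (Algebra.smul_def r (b : B)).symm (Subtype.ext (one_mul _))

lemma secB_shift {i i' e e' m : ℕ} (hi : (i : ℤ) = (e * d : ℕ) + n)
    (hi' : (i' : ℤ) = (e' * d : ℕ) + n) (he : e' = m + e) (b : ℬ i) (b' : ℬ i')
    (h : (b' : B) = g ^ m * b) : secB n hg hi' b' = secB n hg hi b := by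
  refine ProjTilde.sval_ext (𝒜 := ℬ) (ℳ := ℬ) (n := n) fun x hx =>
    mk_eq_mk_iff.mpr ⟨1, GrMod.one_nin _, ?_⟩
  subst he
  simp only [one_smul, smul_eq_mul, h]
  ring

/-- `(r, b) ↦ r · Φ^*(b / g ^ e)`. -/
def G {i e : ℕ} (hi : (i : ℤ) = (e * d : ℕ) + n) :
    R ⊗[R'] ℬ i →+
      Γ((Scheme.Modules.pullback (Proj.map φ hφ)).obj (Twist.twist ℬ n), V φ hφ g) :=
  TensorProduct.liftAddHom
    (AddMonoidHom.mk' (fun r => AddMonoidHom.mk'
      (fun b => cst (V φ hφ g) r •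
        LimTop.unitSec (Proj.map φ hφ) (Twist.twist ℬ n) le_rfl (secB n hg hi b))
      fun b b' => by rw [secB_add, map_add, smul_add])
      fun r r' => AddMonoidHom.ext fun b => by
        simp only [AddMonoidHom.mk'_apply, AddMonoidHom.add_apply, cst_add, add_smul])
    (fun r' r b => by
      simp only [AddMonoidHom.mk'_apply]
      rw [algebraMap_smul_secB φ hφA n hg hi, LimTop.unitSec_smul, smul_smul,
        appLE_algebraMap φ hφ hφA, ← cst_mul, Algebra.smul_def, mul_comm])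

lemma G_tmul {i e : ℕ} (hi : (i : ℤ) = (e * d : ℕ) + n) (r : R) (b : ℬ i) :
    G φ hφ hφA n hg hi (r ⊗ₜ b) = cst (V φ hφ g) r •
      LimTop.unitSec (Proj.map φ hφ) (Twist.twist ℬ n) le_rfl (secB n hg hi b) := rfl

/-- `R ⊗ B_i → A`. -/
def theta (i : ℕ) : R ⊗[R'] ℬ i →+ A :=
  (Algebra.IsPushout.equiv R' R B A).toAddEquiv.toAddMonoidHom.comp
    ((ℬ i).subtype.lTensor R).toAddMonoidHom

include hφA in
lemma theta_tmul {i : ℕ} (r : R) (b : ℬ i) :
    theta (ℬ := ℬ) (A := A) i (r ⊗ₜ b) = algebraMap R A r * φ b := by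
  rw [hφA]; exact Algebra.IsPushout.equiv_tmul ..

include hφA in
lemma theta_mem {i : ℕ} (w : R ⊗[R'] ℬ i) : theta (A := A) i w ∈ 𝒜 i := by
  induction w using TensorProduct.induction_on with
  | zero => rw [map_zero]; exact zero_mem _
  | tmul r b =>
    rw [theta_tmul φ hφA]
    simpa using SetLike.mul_mem_graded (SetLike.algebraMap_mem_graded 𝒜 r) (φ.map_mem b.2)
  | add x y hx hy => rw [map_add]; exact add_mem hx hy

lemma theta_injective (i : ℕ) : Function.Injective (theta (ℬ := ℬ) (A := A) (R := R) i) := by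
  refine (Algebra.IsPushout.equiv R' R B A).injective.comp ?_
  let p : B →ₗ[R'] ℬ i :=
    { toFun := fun b => DirectSum.decompose ℬ b i
      map_add' := fun a b => by simp
      map_smul' := fun r b => by simp [DirectSum.decompose_smul, DirectSum.smul_apply] }
  have : Function.LeftInverse (p.lTensor R) ((ℬ i).subtype.lTensor R) := fun w => by
    rw [← LinearMap.comp_apply, ← LinearMap.lTensor_comp,
      show p ∘ₗ (ℬ i).subtype = LinearMap.id from LinearMap.ext fun b =>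
        Subtype.ext (DirectSum.decompose_of_mem_same ℬ b.2), LinearMap.lTensor_id, LinearMap.id_apply]
  exact this.injective

include hφA in
lemma exists_theta {i : ℕ} {a : A} (ha : a ∈ 𝒜 i) : ∃ w, theta (ℬ := ℬ) (R := R) i w = a := by
  suffices H : ∀ a : A, (DirectSum.decompose 𝒜 a i : A) ∈ (theta (ℬ := ℬ) (A := A) (R := R) i).range by
    have := H a
    rwa [DirectSum.decompose_of_mem_same 𝒜 ha] at this
  intro a
  obtain ⟨z, rfl⟩ := (Algebra.IsPushout.equiv R' R B A).surjective a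
  induction z using TensorProduct.induction_on with
  | zero => simpa using zero_mem _
  | add x y hx hy => simpa using add_mem hx hy
  | tmul r b =>
    induction b using DirectSum.Decomposition.inductionOn ℬ with
    | zero => simpa using zero_mem _
    | add x y hx hy => simpa [TensorProduct.tmul_add] using add_mem hx hy
    | @homogeneous j b =>
      have hm : Algebra.IsPushout.equiv R' R B A (r ⊗ₜ (b : B)) ∈ 𝒜 j := by
        rw [Algebra.IsPushout.equiv_tmul, ← hφA]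
        simpa using SetLike.mul_mem_graded (SetLike.algebraMap_mem_graded 𝒜 r) (φ.map_mem b.2)
      by_cases hji : j = i
      · subst hji
        rw [DirectSum.decompose_of_mem_same 𝒜 hm]
        exact ⟨r ⊗ₜ b, rfl⟩
      · rw [DirectSum.decompose_of_mem_ne 𝒜 hm hji]
        exact zero_mem _

/-- `R ⊗ B_i → A_i`. -/
def thetaI (i : ℕ) : R ⊗[R'] ℬ i →+ 𝒜 i :=
  AddMonoidHom.mk' (fun w => ⟨theta i w, theta_mem φ hφA w⟩) fun x y => Subtype.ext (map_add _ x y)

lemma adjunct_G {i e : ℕ} (hi : (i : ℤ) = (e * d : ℕ) + n) (w : R ⊗[R'] ℬ i) :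
    (adjunct φ hφ n).app (V φ hφ g) (G φ hφ hφA n hg hi w) =
      secA φ hφ n hg hi (thetaI φ hφA i w) := by
  induction w using TensorProduct.induction_on with
  | zero =>
    rw [map_zero, map_zero, map_zero]
    exact (add_eq_left.mp ((secA_add φ hφ n hg hi 0 0).symm.trans (by rw [add_zero]))).symm
  | add x y hx hy => rw [map_add, map_add, hx, hy, map_add, secA_add]
  | tmul r b =>
    rw [G_tmul, Scheme.Modules.Hom.app_smul, adjunct_unitSec, cmp_secB]
    refine ProjTilde.sval_ext (𝒜 := 𝒜) (ℳ := 𝒜) (n := n) fun x hx =>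
      (ProjTilde.sval_smul _ _ x hx).trans ?_
    refine (congrArg (· • _) (valAt_fracFun _ _ _ x hx)).trans ?_
    refine (LocalizedModule.mk_smul_mk _ _ _ _).trans ?_
    exact congrArg₂ LocalizedModule.mk (theta_tmul φ hφA r b).symm (Subtype.ext (one_mul _))

/-- Multiplication by `g ^ m`. -/
def shift (m : ℕ) {i i' : ℕ} (h : i' = m * d + i) : ℬ i →ₗ[R'] ℬ i' where
  toFun b := ⟨g ^ m * b, h ▸ SetLike.mul_mem_graded (ProjTilde.pow_mem_deg hg m) b.2⟩
  map_add' a b := Subtype.ext (mul_add _ (a : B) b)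
  map_smul' r b := Subtype.ext (mul_smul_comm r (g ^ m) (b : B))

lemma G_shift {i i' e e' m : ℕ} (hi : (i : ℤ) = (e * d : ℕ) + n)
    (hi' : (i' : ℤ) = (e' * d : ℕ) + n) (he : e' = m + e) (h : i' = m * d + i) (w : R ⊗[R'] ℬ i) :
    G φ hφ hφA n hg hi' ((shift hg m h).lTensor R w) = G φ hφ hφA n hg hi w := by
  induction w using TensorProduct.induction_on with
  | zero => simp only [map_zero]
  | add x y hx hy => simp only [map_add, hx, hy]
  | tmul r b => rw [LinearMap.lTensor_tmul, G_tmul, G_tmul, secB_shift n hg hi hi' he b _ rfl]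

/-- Sections of the inverse image over the chart of the form `G w`. -/
def Q (z : Γ((Scheme.Modules.pullback (Proj.map φ hφ)).obj (Twist.twist ℬ n), V φ hφ g)) : Prop :=
  ∃ (i e : ℕ) (hi : (i : ℤ) = (e * d : ℕ) + n) (w : R ⊗[R'] ℬ i), G φ hφ hφA n hg hi w = z

lemma Q_add {z z'} (h : Q φ hφ hφA n hg z) (h' : Q φ hφ hφA n hg z') :
    Q φ hφ hφA n hg (z + z') := by
  obtain ⟨i, e, hi, w, rfl⟩ := h
  obtain ⟨i', e', hi', w', rfl⟩ := h'
  have h1 : ((e' * d + i : ℕ) : ℤ) = ((e' + e) * d : ℕ) + n := by push_cast; rw [hi]; push_cast; ring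
  have h2 : e' * d + i = e * d + i' := by
    apply Int.ofNat.inj; simp only [Int.ofNat_eq_natCast]; push_cast at hi hi' ⊢; linarith
  refine ⟨e' * d + i, e' + e, h1, (shift hg e' rfl).lTensor R w + (shift hg e h2).lTensor R w', ?_⟩
  rw [map_add, G_shift φ hφ hφA n hg hi h1 rfl rfl, G_shift φ hφ hφA n hg hi' h1 (Nat.add_comm e' e) h2]

lemma Q_smul_cst {k : ℕ} {r : R} {b' : B} (hb' : b' ∈ ℬ (k * d))
    {z} (h : Q φ hφ hφA n hg z) :
    Q φ hφ hφA n hg ((cst (V φ hφ g) r * (Proj.map φ hφ).appLE _ (V φ hφ g) le_rfl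
      (fracFun hb' (ProjTilde.pow_mem_deg hg k)
        (fun _ hx => pow_nin hx k : Proj.basicOpen ℬ g ≤ Proj.basicOpen ℬ (g ^ k)))) • z) := by
  obtain ⟨i, e, hi, w, rfl⟩ := h
  have hi' : ((k * d + i : ℕ) : ℤ) = ((k + e) * d : ℕ) + n := by push_cast; rw [hi]; push_cast; ring
  let mulb : ℬ i →ₗ[R'] ℬ (k * d + i) :=
    { toFun := fun b => ⟨b' * b, SetLike.mul_mem_graded hb' b.2⟩
      map_add' := fun a b => Subtype.ext (mul_add _ (a : B) b)
      map_smul' := fun c b => Subtype.ext (mul_smul_comm c b' (b : B)) }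
  refine ⟨k * d + i, k + e, hi', TensorProduct.map (LinearMap.mulLeft R' r) mulb w, ?_⟩
  induction w using TensorProduct.induction_on with
  | zero => simp only [map_zero, smul_zero]
  | add x y hx hy => simp only [map_add, smul_add, hx, hy]
  | tmul s b =>
    rw [TensorProduct.map_tmul, G_tmul, G_tmul, smul_smul, mul_assoc,
      mul_comm ((Proj.map φ hφ).appLE _ _ _ _), ← mul_assoc, ← cst_mul, mul_smul,
      ← LimTop.unitSec_smul, fracFun_smul_secB n hg hi b' hb' b hi']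
    rfl

include hφA in
lemma exists_theta_fracFun {k : ℕ} {a : A} (ha : a ∈ 𝒜 (k * d)) :
    ∃ l : List (R × ℬ (k * d)), a = (l.map fun p => algebraMap R A p.1 * φ (p.2 : B)).sum := by
  obtain ⟨w, rfl⟩ := exists_theta φ hφA (R := R) ha
  clear ha
  induction w using TensorProduct.induction_on with
  | zero => exact ⟨[], by simp⟩
  | tmul r b => exact ⟨[(r, b)], by simp [theta_tmul φ hφA]⟩
  | add x y hx hy =>
    obtain ⟨l, hl⟩ := hx
    obtain ⟨l', hl'⟩ := hy
    exact ⟨l ++ l', by simp [hl, hl']⟩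

lemma zero_Q (hd : 0 < d) : Q φ hφ hφA n hg 0 := by
  obtain ⟨i, hi⟩ : ∃ i : ℕ, (i : ℤ) = (n.natAbs * d : ℕ) + n := ⟨((n.natAbs * d : ℕ) + n).toNat,
    Int.toNat_of_nonneg (by
      have : n.natAbs ≤ n.natAbs * d := Nat.le_mul_of_pos_right _ hd
      omega)⟩
  exact ⟨i, _, hi, 0, map_zero _⟩

include hg in
lemma Q_smul (hd : 0 < d) (c : Γ(Proj 𝒜, V φ hφ g)) {z} (h : Q φ hφ hφA n hg z) :
    Q φ hφ hφA n hg (c • z) := by
  obtain ⟨k, a, ha, hc⟩ : ∃ (k : ℕ) (a : A) (ha : a ∈ 𝒜 (k * d)),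
      c = fracFun ha (ProjTilde.pow_mem_deg (φ.map_mem hg) k) (fun _ hx => pow_nin hx k) :=
    ProjTilde.exists_fracFun (φ.map_mem hg) hd c
  obtain ⟨l, rfl⟩ := exists_theta_fracFun φ hφA ha
  let term : R × ℬ (k * d) → Γ(Proj 𝒜, V φ hφ g) := fun p =>
    cst (V φ hφ g) p.1 * (Proj.map φ hφ).appLE _ (V φ hφ g) le_rfl
      (fracFun p.2.2 (ProjTilde.pow_mem_deg hg k)
        (fun _ hx => pow_nin hx k : Proj.basicOpen ℬ g ≤ Proj.basicOpen ℬ (g ^ k)))
  have hterm : c = (l.map term).sum := by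
    subst hc
    refine valAt_ext fun x hx => (valAt_fracFun _ _ _ x hx).trans ?_
    clear ha
    induction l with
    | nil =>
      simp only [List.map_nil, List.sum_nil]
      exact (Localization.mk_zero _).trans HomogeneousLocalization.val_zero.symm
    | cons p l ih =>
      rw [List.map_cons, List.sum_cons, List.map_cons, List.sum_cons, valAt_add, ← ih]
      refine (Localization.add_mk_self _ _ _).symm.trans (congrArg (· + _) ?_)
      simp only [term, valAt_mul, appLE_fracFun, cst, valAt_fracFun, Localization.mk_mul]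
      exact congrArg (Localization.mk _) (Subtype.ext ((map_pow φ g k).symm.trans (one_mul _).symm))
  rw [hterm, List.sum_smul]
  clear hterm hc ha
  induction l with
  | nil =>
    simp only [List.map_nil, List.sum_nil]
    exact zero_Q φ hφ hφA n hg hd
  | cons p l ih =>
    simp only [List.map_cons, List.sum_cons]
    exact Q_add φ hφ hφA n hg (Q_smul_cst φ hφ hφA n hg p.2.2 h) ih

include hg in
lemma all_Q (hd : 0 < d)
    (z : Γ((Scheme.Modules.pullback (Proj.map φ hφ)).obj (Twist.twist ℬ n), V φ hφ g)) :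
    Q φ hφ hφA n hg z := by
  have : (Twist.twist ℬ n).IsQuasicoherent := ProjTilde.isQuasicoherent_twist n
  have hU := Proj.isAffineOpen_basicOpen ℬ g hg hd
  have hV : IsAffineOpen (V φ hφ g) := by
    rw [V, Proj.map_preimage_basicOpen]
    exact Proj.isAffineOpen_basicOpen 𝒜 (φ g) (φ.map_mem hg) hd
  have hb := LimTop.isBaseChange_unitSec (Proj.map φ hφ) (Twist.twist ℬ n)
    (W := V φ hφ g) le_rfl hU hV
  let := ((Proj.map φ hφ).appLE _ (V φ hφ g) le_rfl).hom.toAlgebra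
  let := LimTop.secModule (Proj.map φ hφ) (Twist.twist ℬ n) (W := V φ hφ g) (le_refl _)
  have : IsScalarTower Γ(Proj ℬ, Proj.basicOpen ℬ g) Γ(Proj 𝒜, V φ hφ g)
      Γ((Scheme.Modules.pullback (Proj.map φ hφ)).obj (Twist.twist ℬ n), V φ hφ g) :=
    IsScalarTower.of_algebraMap_smul fun _ _ => rfl
  refine hb.inductionOn z (Q φ hφ hφA n hg) (zero_Q φ hφ hφA n hg hd) (fun m => ?_)
    (fun c _ h => Q_smul φ hφ hφA n hg hd c h) (fun _ _ h h' => Q_add φ hφ hφA n hg h h')
  obtain ⟨e, i, b, hb', hi, hval⟩ := exists_frac (𝒜 := ℬ) (ℳ := ℬ) hg hd n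
    (U := Proj.basicOpen ℬ g) (fun _ hx => hx) (show GrMod.sect ℬ ℬ n (op (Proj.basicOpen ℬ g)) from m)
  have hi' : (i : ℤ) = (e * d : ℕ) + n := by push_cast; exact hi
  refine ⟨i, e, hi', 1 ⊗ₜ ⟨b, hb'⟩, ?_⟩
  rw [G_tmul, show secB n hg hi' ⟨b, hb'⟩ = m from
    ProjTilde.sval_ext (𝒜 := ℬ) (ℳ := ℬ) (n := n) fun x hx => (hval x hx).symm]
  rw [show cst (V φ hφ g) (1 : R) = (1 : Γ(Proj 𝒜, V φ hφ g)) from valAt_ext fun x hx => by
    rw [cst, valAt_fracFun, valAt_one, map_one]; exact Localization.mk_self ⟨1, _⟩, one_smul]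
  rfl

include hg hφA in
theorem bijective_adjunct (hd : 0 < d) :
    Function.Bijective ((adjunct φ hφ n).app (V φ hφ g)) := by
  constructor
  · rw [injective_iff_map_eq_zero]
    intro z hz
    obtain ⟨i, e, hi, w, rfl⟩ := all_Q φ hφ hφA n hg hd z
    rw [adjunct_G] at hz
    obtain ⟨N, hN⟩ := exists_pow_smul_eq_zero (𝒜 := 𝒜) (ℳ := 𝒜) (thetaI φ hφA i w).2
      (φ.map_mem hg) hd fun x hx => by
        refine (mk_eq_zero_iff (s := φ g ^ e) (hs := pow_nin hx e)).mp ?_
        exact congrArg (fun s => valA n s x hx) hz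
    have hi' : ((N * d + i : ℕ) : ℤ) = ((N + e) * d : ℕ) + n := by push_cast; rw [hi]; push_cast; ring
    rw [← G_shift φ hφ hφA n hg hi hi' rfl rfl w]
    suffices (shift hg N rfl).lTensor R w = 0 by rw [this, map_zero]
    refine theta_injective (A := A) _ ((?_ : theta (A := A) (N * d + i) _ = φ g ^ N * theta i w).trans
      (hN.trans (map_zero _).symm))
    clear hN hz
    induction w using TensorProduct.induction_on with
    | zero => simp
    | add x y hx hy => simp [map_add, mul_add, hx, hy]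
    | tmul r b =>
      rw [LinearMap.lTensor_tmul, theta_tmul φ hφA, theta_tmul φ hφA]
      change algebraMap R A r * φ (g ^ N * (b : B)) = _
      rw [map_mul, map_pow]; ring
  · intro t
    obtain ⟨e, i, a, ha, hi, hval⟩ := exists_frac (𝒜 := 𝒜) (ℳ := 𝒜) (φ.map_mem hg) hd n
      (U := V φ hφ g) (fun _ hx => hx) (show GrMod.sect 𝒜 𝒜 n (op (V φ hφ g)) from t)
    have hi' : (i : ℤ) = (e * d : ℕ) + n := by push_cast; exact hi
    obtain ⟨w, hw⟩ := exists_theta φ hφA (R := R) ha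
    refine ⟨G φ hφ hφA n hg hi' w, (adjunct_G φ hφ hφA n hg hi' w).trans ?_⟩
    exact ProjTilde.sval_ext (𝒜 := 𝒜) (ℳ := 𝒜) (n := n) fun x hx =>
      (congrArg (fun a => LocalizedModule.mk a _) hw).trans (hval x hx).symm

end chart

include hφA in
/-- `Φ^* O(n) ≅ O(n)`. -/
theorem isIso_adjunct : IsIso (adjunct φ hφ n) := by
  have : (Twist.twist ℬ n).IsQuasicoherent := ProjTilde.isQuasicoherent_twist n
  have : (Twist.twist 𝒜 n).IsQuasicoherent := ProjTilde.isQuasicoherent_twist n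
  refine ProjTilde.isIso_of_bijective_affine (adjunct φ hφ n)
    (ι := Σ d : {d : ℕ // 0 < d}, ℬ d.1) (fun p => V φ hφ (p.2 : B)) (fun p => ?_) (fun y _ => ?_)
    fun p => bijective_adjunct φ hφ hφA n p.2.2 p.1.2
  · rw [V, Proj.map_preimage_basicOpen]
    exact Proj.isAffineOpen_basicOpen 𝒜 _ (φ.map_mem p.2.2) p.1.2
  · let x : ProjectiveSpectrum ℬ := Proj.map φ hφ y
    by_contra hy
    refine x.not_irrelevant_le ((HomogeneousIdeal.irrelevant_le _).mpr fun i hi a ha => ?_)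
    by_contra h
    exact hy (Opens.mem_iSup.mpr ⟨⟨⟨i, hi⟩, ⟨a, ha⟩⟩, h⟩)

end Groth.Agent.ProjBC

end
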